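import Groth.Agent.VBCurve.K707.PairInv
import Groth.Agent.VBCurve.K703.Duality
import Groth.Agent.VBCurve.K703.Chi
import Groth.Agent.VBCurve.K703.Basic
import Groth.Agent.VBCurve.K708.Coho
import Groth.Agent.VBCurve.K708.Deg
import Groth.Agent.Fga.MumInputs
import Groth.Agent.Fga.HShift
import Groth.Agent.Fga.PicMon
import Groth.Agent.S1530
import Groth.Prelude.Def_ShStab

/-!
# Semistability on a curve and the number of sections of submodules

`X` smooth proper integral curve over an algebraically closed field.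
* `h0_le`: if `deg G' + rk G' (1 - g) ≤ rk G' · B` for all locally free `G' ⊆ G` and `g ≤ B` then
  `h⁰(G') ≤ rk G' · B` for all locally free `G' ⊆ G`;
* `ss_twist`: a twist of a semistable bundle by an invertible module is semistable;
* `main`: the criterion of Le Potier–Simpson for quotients of `O^N` with fixed Hilbert polynomial.
-/

set_option autoImplicit false
universe u

open CategoryTheory CategoryTheory.Limits AlgebraicGeometry TopologicalSpace Opposite Polynomial Module

namespace K169.SlopeH0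

open Groth.Agent.VarietyA.DegRank K707.Base K707.Deg K707.Slope K707.Semi K707.TensL K703.Duality
open Groth.Agent

variable {k : Type u} [Field k] [IsAlgClosed k] {X : Scheme.{u}} [X.Over (Spec (CommRingCat.of k))]
  [IsIntegral X] [IsProper (X ↘ (Spec (CommRingCat.of k)))]

theorem rr (C : Crv k X) {G : X.Modules} (hG : FlatMod.IsFinLocFree G) :
    (finrank k (Coh.HH X G 0) : ℚ) - (finrank k (Coh.HH X G 1) : ℚ) =
      dg k G + rk G * (1 - (Curv2.genus k X : ℚ)) := by
  have h := K703.Chi.rr k C.dim G (rk G)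
  rw [← dg_of_rank k (isFinLocFreeOfRank_rk hG)] at h
  exact_mod_cast h

omit [IsAlgClosed k] [IsIntegral X] [IsProper (X ↘ (Spec (CommRingCat.of k)))] in
theorem finrank_eq_zero_of_subsingleton {G : X.Modules} {n : ℕ} (h : Subsingleton (Coh.HH X G n)) :
    finrank k (Coh.HH X G n) = 0 := Module.finrank_zero_of_subsingleton

/-- Sections of submodules, by induction on the rank. -/
theorem h0_le (C : Crv k X) (D : Dualizing k X) {G : X.Modules} (B : ℚ) (hB : (Curv2.genus k X : ℚ) ≤ B)
    (h : ∀ (G' : X.Modules) (i : G' ⟶ G), Mono i → FlatMod.IsFinLocFree G' →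
      (dg k G' : ℚ) + rk G' * (1 - (Curv2.genus k X : ℚ)) ≤ rk G' * B) :
    ∀ (n : ℕ) (G' : X.Modules) (i : G' ⟶ G), Mono i → FlatMod.IsFinLocFree G' → rk G' = n →
      (finrank k (Coh.HH X G' 0) : ℚ) ≤ n * B := by
  intro n
  induction n with
  | zero =>
    intro G' i hi hG' hn
    have h0 := isZero_of_rk_eq_zero C hG' hn
    have h1 : Subsingleton (Coh.HH X G' 0) := Fga.HShift.subsingleton_of_isZero h0 0
    rw [finrank_eq_zero_of_subsingleton h1]
    simp
  | succ n ih =>
    intro G' i hi hG' hn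
    by_cases h1 : Subsingleton (Coh.HH X G' 1)
    · have h2 := rr C hG'
      rw [finrank_eq_zero_of_subsingleton h1] at h2
      have h3 := h G' i hi hG'
      rw [← h2, hn] at h3
      simpa using h3
    · obtain ⟨φ, hφ⟩ := D.exists_ne_zero (coh_of_vb hG').1 h1
      have hw : FlatMod.IsFinLocFree D.w := vb_of_inv D.inv
      obtain ⟨I, p, j, hp, hj, hpj, hI, hpos, e1, e2, e3, e4⟩ := exists_factor_pos C φ hφ (coh_of_vb hG') hw
      have hrw : rk D.w = 1 := rk_of_rank (rank_one_iff.mpr D.inv)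
      have hK : FlatMod.IsFinLocFree (kernel φ) := vb_kernel C φ hG' (coh_of_vb hw)
      have hrI : rk I = 1 := by omega
      have hrK : rk (kernel φ) = n := by omega
      have h2 := ih (kernel φ) (kernel.ι φ ≫ i) (mono_comp _ _) hK hrK
      have hker : kernel.ι φ ≫ p = 0 := by
        rw [← cancel_mono j, Category.assoc, hpj, kernel.condition, Limits.zero_comp]
      have hS : (ShortComplex.mk (kernel.ι φ) p hker).ShortExact := by
        refine { exact := ?_, mono_f := inferInstanceAs (Mono (kernel.ι φ)), epi_g := hp }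
        refine ShortComplex.exact_of_f_is_kernel _ (KernelFork.IsLimit.ofι' _ _ fun {A} g hg => ?_)
        have hg0 : g ≫ p = 0 := hg
        have hg' : g ≫ φ = 0 := by
          have h6 : g ≫ φ = (g ≫ p) ≫ j := by rw [Category.assoc, hpj]
          rw [h6, hg0, Limits.zero_comp]
        exact ⟨kernel.lift φ g hg', kernel.lift_ι _ _ _⟩
      have h3 := K708.Coho.finrank_HH_le_add k hS (coh_of_vb hK) (coh_of_vb hG') (coh_of_vb hI) 0
      have h4 := K708.Coho.finrank_H0_le_of_mono k (coh_of_vb hw) j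
      rw [D.h0_w] at h4
      have h5 : (finrank k (Coh.HH X G' 0) : ℚ) ≤ (finrank k (Coh.HH X (kernel φ) 0) : ℚ) + (Curv2.genus k X : ℚ) := by
        have h6 : finrank k (Coh.HH X G' 0) ≤ finrank k (Coh.HH X (kernel φ) 0) + Curv2.genus k X :=
          h3.trans (Nat.add_le_add_left h4 _)
        exact_mod_cast h6
      push_cast
      linarith

omit [IsAlgClosed k] in
/-- Slope bound for submodules of a twist of a semistable module. -/
theorem ss_twist (C : Crv k X) {E M : X.Modules} (hM : PicF.IsInvertible M) (hE : FlatMod.IsFinLocFree E)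
    (hss : SS k E) : SS k (CohB1.tensorMod E M) := by
  intro G i hi hG
  have hi' : Mono (show G ⟶ (T M).obj E from i) := hi
  obtain ⟨J, j, e, hj, hJ, -, hr, hd⟩ := K707.PairInv.exists_untwist C (L := M) hM hE (coh_of_vb hG)
    (show G ⟶ (T M).obj E from i)
  have h1 := hss J j hj hJ
  have h2 : rk (CohB1.tensorMod E M) = rk E := by
    rw [rk_tensor (rank_one_iff.mpr hM) (coh_of_vb hE), one_mul]
  have h3 := dg_tensor k C.dim (rank_one_iff.mpr hM) (coh_of_vb hE)
  rw [h2, h3, hd, ← hr]
  push_cast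
  nlinarith

omit [IsAlgClosed k] [X.Over (Spec (CommRingCat.of k))] [IsIntegral X] [IsProper (X ↘ (Spec (CommRingCat.of k)))] in
theorem epi_map {M A B : X.Modules} (hM : PicF.IsInvertible M) (q : A ⟶ B) (hq : Epi q) : Epi ((T M).map q) := by
  have he := isEquivalence hM
  have h1 : (T M).IsLeftAdjoint := inferInstance
  have h2 : (T M).PreservesEpimorphisms := Functor.preservesEpimorphisms_of_isLeftAdjoint _
  exact (T M).map_epi q

/-- `H¹((O^N) ⊗ M) = 0`, hence `H¹(F ⊗ M) = 0` for quotients `F` of `O^N`, once `deg M > deg w`. -/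
theorem h1_twist (C : Crv k X) (D : Dualizing k X) {M : X.Modules} (hM : PicF.IsInvertible M)
    (hdeg : 2 * (Curv2.genus k X : ℤ) - 2 < Curv2.deg k X M 1) {N : ℕ} {F : X.Modules}
    (q : FlatMod.freeMod X N ⟶ F) (hq : Epi q) : Subsingleton (Coh.HH X (CohB1.tensorMod F M) 1) := by
  have h1 : Subsingleton (Coh.HH X M 1) := by
    refine D.subsingleton_h1 (coh_of_vb (vb_of_inv hM)).1 fun φ => ?_
    exact K703.Basic.hom_eq_zero k C.dim hM D.inv (by rw [D.deg_w_of_isAlgClosed C.dim]; exact hdeg) φ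
  have h2 := Fga.MumInputs.subsingleton_of_dec (Fga.MumInputs.decFree X N M) 1 h1
  have h3 : Epi ((T M).map q) := epi_map hM q hq
  exact K708.Coho.subsingleton_H1_of_epi k C.dim.le (M := (T M).obj (FlatMod.freeMod X N)) (N := (T M).obj F)
    ((T M).map q) h2

/-- The criterion. -/
theorem main (C : Crv k X) (D : Dualizing k X) (L : X.Modules) (hLi : PicF.IsInvertible L) (hL : CohB1.IsAmple L)
    (N : ℕ) (P : ℚ[X]) :
    ∃ l : ℕ, ∀ (r : ℕ) (F : X.Modules) (q : FlatMod.freeMod X N ⟶ F),
      0 < r → FlatMod.IsFinLocFreeOfRank r F → Epi q → ShStab.IsHilbPoly k X L F P →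
        (ModFun.IsSlopeSemistable k X F r ↔
          ∀ (F' : X.Modules) (r' : ℕ) (i : F' ⟶ F), Mono i → 0 < r' → FlatMod.IsFinLocFreeOfRank r' F' →
            (Module.finrank k (Coh.HH X (ShStab.twist X L F' l) 0) : ℚ) / (r' : ℚ) ≤
              (Module.finrank k (Coh.HH X (ShStab.twist X L F l) 0) : ℚ) / (r : ℚ)) := by
  set g := Curv2.genus k X with hg
  have ha : 0 < Curv2.deg k X L 1 := (S1530.result k X C.dim L hLi).mp hL
  set a := Curv2.deg k X L 1 with hadef
  let l : ℕ := ⌈|P.eval 0|⌉₊ + 2 * g + 1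
  have hl0 : |P.eval 0| + 2 * g + 1 ≤ (l : ℚ) := by
    have := Nat.le_ceil (|P.eval 0|)
    simp only [l]
    push_cast
    linarith
  have hla : (l : ℚ) ≤ (l : ℚ) * (a : ℚ) := by
    have h1 : (1 : ℚ) ≤ (a : ℚ) := by exact_mod_cast ha
    exact le_mul_of_one_le_right (by positivity) h1
  refine ⟨l, fun r F q hr hF hq hP => ?_⟩
  have hFv := isFinLocFree_of_rank hF
  have hrkF : rk F = r := rk_of_rank hF
  set M := CohB1.tensorPow L l with hM'
  have hM : PicF.IsInvertible M := Fdesc.LocGen.isInvertible_tensorPow hLi l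
  have hM1 := rank_one_iff.mpr hM
  have hdM : Curv2.deg k X M 1 = l * a := (K708.Deg.deg_tensorPow k C.dim.le (rank_one_iff.mpr hLi) l).2
  have hdgM : dg k M = l * a := by rw [dg_of_rank k hM1, hdM]
  have h2g : 2 * (g : ℤ) - 2 < Curv2.deg k X M 1 := by
    rw [hdM]
    have h1 : (2 * (g : ℚ) - 2) < (l : ℚ) * (a : ℚ) := by
      have := abs_nonneg (P.eval 0)
      linarith
    exact_mod_cast h1
  -- numbers for `F(l)`
  have hTF : FlatMod.IsFinLocFree (CohB1.tensorMod F M) := by
    have := isLocNoeth C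
    exact vb_tensor hFv (vb_of_inv hM)
  have hrT : ∀ {G : X.Modules}, Coh.IsCoh G → rk (CohB1.tensorMod G M) = rk G := fun hG => by
    rw [rk_tensor hM1 hG, one_mul]
  have hdT : ∀ {G : X.Modules}, Coh.IsCoh G → dg k (CohB1.tensorMod G M) = dg k G + rk G * (l * a) := fun hG => by
    rw [dg_tensor k C.dim hM1 hG, hdgM]
    push_cast
    ring
  have h1F : Subsingleton (Coh.HH X (CohB1.tensorMod F M) 1) := h1_twist C D hM h2g q hq
  have hrrF := rr C hTF
  rw [finrank_eq_zero_of_subsingleton h1F, hrT (coh_of_vb hFv), hdT (coh_of_vb hFv), hrkF] at hrrF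
  have hr' : (0 : ℚ) < r := by exact_mod_cast hr
  -- the constant term of the Hilbert polynomial
  have hP0 : (dg k F : ℚ) + r * (1 - (g : ℚ)) = P.eval 0 := by
    have h1 := hP 0
    have h2 : Nonempty (ShStab.twist X L F 0 ≅ F) := by
      rw [← Fga.PicMon.mc_eq_iff]
      unfold ShStab.twist
      rw [Fga.PicMon.mc_tensor, Fga.PicMon.mc_tensorPow, pow_zero, mul_one]
    obtain ⟨e0⟩ := h2
    rw [euler_iso k e0, Nat.cast_zero, euler_eq_dg, hrkF, K703.Chi.euler_structure k C.dim] at h1
    rw [← h1]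
    push_cast
    rfl
  set B : ℚ := (finrank k (Coh.HH X (CohB1.tensorMod F M) 0) : ℚ) / r with hBdef
  have hBr : (dg k F : ℚ) + r * (l * a) + r * (1 - g) = r * B := by
    rw [hBdef, mul_div_cancel₀ _ hr'.ne']
    push_cast at hrrF
    linarith
  have hgB : (g : ℚ) ≤ B := by
    have h1 : r * (g : ℚ) ≤ r * B := by
      rw [← hBr]
      have h2 : (dg k F : ℚ) + r * (1 - (g : ℚ)) = P.eval 0 := hP0
      have h3 : -|P.eval 0| ≤ P.eval 0 := neg_abs_le _
      have h4 : (1 : ℚ) ≤ r := by exact_mod_cast hr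
      have h5 : (r : ℚ) * (|P.eval 0| + 2 * g + 1) ≤ r * (l * a) :=
        mul_le_mul_of_nonneg_left (hl0.trans hla) hr'.le
      have h6 : |P.eval 0| ≤ r * |P.eval 0| := le_mul_of_one_le_left (abs_nonneg _) h4
      have h7 : (0 : ℚ) ≤ r * g := by positivity
      nlinarith
    exact le_of_mul_le_mul_left h1 hr'
  rw [← ss_iff C hF]
  constructor
  · intro hss F' r' i hi hr0 hF'
    have hF'v := isFinLocFree_of_rank hF'
    have hTF' : FlatMod.IsFinLocFree (CohB1.tensorMod F' M) := by
      have := isLocNoeth C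
      exact vb_tensor hF'v (vb_of_inv hM)
    have hlim := preservesFiniteLimits (vb_of_inv hM)
    have hmono : Mono ((T M).map i) := inferInstance
    have hssT := ss_twist C hM hFv hss
    have key := h0_le C D (G := CohB1.tensorMod F M) B hgB (fun G' j hj hG' => ?_) r' (CohB1.tensorMod F' M)
      ((T M).map i) hmono hTF' (by rw [hrT (coh_of_vb hF'v), rk_of_rank hF'])
    · have hr0' : (0 : ℚ) < r' := by exact_mod_cast hr0
      change (finrank k (Coh.HH X (CohB1.tensorMod F' M) 0) : ℚ) / (r' : ℚ) ≤ B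
      rw [div_le_iff₀ hr0', mul_comm]
      exact key
    · have h1 := hssT G' j hj hG'
      rw [hrT (coh_of_vb hFv), hdT (coh_of_vb hFv), hrkF] at h1
      have h2 : (dg k G' : ℚ) * r ≤ ((dg k F : ℚ) + r * (l * a)) * rk G' := by exact_mod_cast h1
      have h3 : r * ((dg k G' : ℚ) + rk G' * (1 - (g : ℚ))) ≤ r * (rk G' * B) := by
        have h4 : (r : ℚ) * (rk G' * B) = rk G' * (r * B) := by ring
        rw [h4, ← hBr]
        nlinarith
      exact le_of_mul_le_mul_left h3 hr'
  · intro h F' i hi hF'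
    rcases Nat.eq_zero_or_pos (rk F') with h0 | h0
    · rw [dg_of_vb_of_rk_eq_zero C hF' h0, h0]; simp
    have h1 := h F' (rk F') i hi h0 (isFinLocFreeOfRank_rk hF')
    have hTF' : FlatMod.IsFinLocFree (CohB1.tensorMod F' M) := by
      have := isLocNoeth C
      exact vb_tensor hF' (vb_of_inv hM)
    have h2 := rr C hTF'
    rw [hrT (coh_of_vb hF'), hdT (coh_of_vb hF')] at h2
    have h0' : (0 : ℚ) < rk F' := by exact_mod_cast h0
    have h3 : (finrank k (Coh.HH X (CohB1.tensorMod F' M) 0) : ℚ) / (rk F' : ℚ) ≤ B := h1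
    rw [div_le_iff₀ h0'] at h3
    have h4 : (0 : ℚ) ≤ (finrank k (Coh.HH X (CohB1.tensorMod F' M) 1) : ℚ) := by positivity
    have h5 : (dg k F' : ℚ) + rk F' * (l * a) + rk F' * (1 - (g : ℚ)) ≤ B * rk F' := by
      push_cast at h2
      linarith
    have h6 : (dg k F' : ℚ) * r ≤ dg k F * rk F' := by
      have h7 : ((dg k F' : ℚ) + rk F' * (l * a) + rk F' * (1 - (g : ℚ))) * r ≤ (B * rk F') * r :=
        mul_le_mul_of_nonneg_right h5 hr'.le
      have h8 : (B * rk F') * r = (r * B) * rk F' := by ring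
      rw [h8, ← hBr] at h7
      nlinarith
    rw [hrkF]
    exact_mod_cast h6

end K169.SlopeH0
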